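import Groth.Agent.TateLoc.K447.GalCls
import Groth.Agent.Fga.HenselDVR
import Groth.Agent.GrpQ.K185.Inst
import Mathlib.FieldTheory.Finite.Basic
import Mathlib.FieldTheory.Finite.GaloisField
import Mathlib.GroupTheory.QuotientGroup.Finite

/-!
# `H¹_fppf(κ, F)` for a finite field `κ`

* `hEquiv`: `BigSite.H K S F n ≃+ BigSite.HU K F n (S/S)`.
* `exists_ext`: a covering sieve of `Spec k` contains `Spec L ⟶ Spec k` for a finite extension `L` of `k`.
* `card_kernel_le`: for a cyclic extension `L/k` with `F(L)` finite, classes dying on `L` are at most `#F(k)` many.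
* `finite_H_one`: `κ` finite, `F(L)` finite for all finite extensions: `H¹_fppf(κ, F)` is finite (of order `≤ #F(κ)`).
-/

set_option autoImplicit false

universe u v

open CategoryTheory CategoryTheory.Limits AlgebraicGeometry Opposite
open K828 K827.H1 K447.GalCls

namespace K447.FinField

/-- Counting: `#(ker N / (f - 1)) ≤ #ker (f - 1)` for an endomorphism of a finite group. -/
theorem card_le {M : Type*} [AddCommGroup M] [Finite M] (D N : M →+ M) (hND : ∀ m, N (D m) = 0)
    {ι : Type*} [Finite ι] (g : ι → M) (hg : ∀ i, N (g i) = 0) (hinj : ∀ i j, g i - g j ∈ D.range → i = j) :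
    Nat.card ι ≤ Nat.card D.ker := by
  have hle : D.range ≤ N.ker := by
    rintro _ ⟨m, rfl⟩
    exact hND m
  let Q := N.ker ⧸ (D.range.addSubgroupOf N.ker)
  let q : ι → Q := fun i => QuotientAddGroup.mk ⟨g i, hg i⟩
  have hq : Function.Injective q := by
    intro i j hij
    apply hinj
    have h1 := (QuotientAddGroup.eq).mp hij.symm
    have h2 : (-(⟨g j, hg j⟩ : N.ker) + ⟨g i, hg i⟩ : N.ker).1 ∈ D.range := h1
    have e : (-(⟨g j, hg j⟩ : N.ker) + ⟨g i, hg i⟩ : N.ker).1 = g i - g j := by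
      change -(g j) + g i = _
      abel
    rwa [e] at h2
  have h1 : Nat.card ι ≤ Nat.card Q := Nat.card_le_card_of_injective q hq
  have e1 : Nat.card M = Nat.card D.ker * Nat.card D.range := by
    rw [← D.ker.card_mul_index, AddSubgroup.index_ker]
  have e2 : Nat.card M = Nat.card N.ker * Nat.card N.range := by
    rw [← N.ker.card_mul_index, AddSubgroup.index_ker]
  have e3 : Nat.card N.ker = Nat.card D.range * Nat.card Q := by
    rw [← (D.range.addSubgroupOf N.ker).card_mul_index]
    congr 1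
    exact Nat.card_congr (AddSubgroup.addSubgroupOfEquivOfLe hle).toEquiv
  have hpos : 0 < Nat.card D.range := Nat.card_pos
  have hpos' : 0 < Nat.card N.range := Nat.card_pos
  have e4 : Nat.card D.ker = Nat.card Q * Nat.card N.range := by
    apply Nat.eq_of_mul_eq_mul_right hpos
    rw [← e1, e2, e3]
    ring
  calc Nat.card ι ≤ Nat.card Q := h1
    _ ≤ Nat.card Q * Nat.card N.range := Nat.le_mul_of_pos_right _ hpos'
    _ = _ := e4.symm

section

variable {K : Precoverage Scheme.{u}} {S : Scheme.{u}}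

/-- pull-back along the identity -/
noncomputable def pullId (F : BigSite.Ab K S) : (BigSite.pullBig K (𝟙 S) AddCommGrpCat.{u + 1}).obj F ≅ F :=
  (fullyFaithfulSheafToPresheaf _ _).preimageIso
    (Functor.isoWhiskerRight (NatIso.op (Over.mapId S)).symm F.obj)

/-- The cohomology of `S` is the cohomology of the final object. -/
noncomputable def hEquiv (F : BigSite.Ab K S) (n : ℕ) :
    BigSite.HU K F n (Over.mk (𝟙 S)) ≃+ BigSite.H K S F n where
  __ := Sheaf.H.map (pullId F).hom n
  invFun := Sheaf.H.map (pullId F).inv n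
  left_inv x := by
    change Sheaf.H.map (pullId F).inv n (Sheaf.H.map (pullId F).hom n x) = x
    rw [← Sheaf.H.map_comp_apply, Iso.hom_inv_id, Sheaf.H.map_id_apply]
  right_inv x := by
    change Sheaf.H.map (pullId F).hom n (Sheaf.H.map (pullId F).inv n x) = x
    rw [← Sheaf.H.map_comp_apply, Iso.inv_hom_id, Sheaf.H.map_id_apply]

end

variable {k : Type u} [Field k]

open scoped K185 in
/-- A covering sieve of `Spec k` contains a finite extension. -/
theorem exists_ext {R : Sieve (T0 k)}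
    (hR : R ∈ QuotSh.J Scheme.fppfPrecoverage (Spec (CommRingCat.of k)) (T0 k)) :
    ∃ (L : Type u) (_ : Field L) (_ : Algebra k L) (_ : FiniteDimensional k L), R (pL k L) := by
  obtain ⟨P, hP, h⟩ := K731.Basic.exists_mem_of_mem_J hR
  let x : Spec (CommRingCat.of k) := IsLocalRing.closedPoint k
  obtain ⟨Y, g, hg, y, hy⟩ := hP.1 x
  obtain @⟨Y, g, hg⟩ := hg
  have h2 : (@Flat ⊓ @LocallyOfFinitePresentation : MorphismProperty Scheme.{u}) g := hP.2 hg
  have h3 : LocallyOfFinitePresentation g := h2.2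
  have h4 : LocallyOfFiniteType g := inferInstance
  have h5 : Nonempty Y := ⟨y⟩
  obtain ⟨L, i1, i2, i3, q, hq⟩ := Groth.Agent.Fga.HenselDVR.exists_finite_point g
  refine ⟨L, i1, i2, i3, ?_⟩
  have h6 := h g hg
  have h7 : q ≫ (g ≫ (T0 k).hom) = (TL k L).hom := by
    change q ≫ (g ≫ 𝟙 _) = _
    rw [Category.comp_id, hq]
    rfl
  have h8 := R.downward_closed h6 (Over.homMk q h7 : TL k L ⟶ Over.mk (g ≫ (T0 k).hom))
  exact (to_T0_ext ((Over.homMk q h7 : TL k L ⟶ Over.mk (g ≫ (T0 k).hom)) ≫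
    (Over.homMk g : Over.mk (g ≫ (T0 k).hom) ⟶ T0 k)) (pL k L)) ▸ h8

theorem flat_pL (L : Type u) [Field L] [Algebra k L] : Flat (pL k L).left := by
  have e : (pL k L).left = Spec.map (CommRingCat.ofHom (algebraMap k L)) := rfl
  rw [e, HasRingHomProperty.Spec_iff (P := @Flat)]
  exact RingHom.flat_algebraMap_iff.mpr inferInstance

theorem lfp_pL (L : Type u) [Field L] [Algebra k L] [FiniteDimensional k L] :
    LocallyOfFinitePresentation (pL k L).left := by
  have e : (pL k L).left = Spec.map (CommRingCat.ofHom (algebraMap k L)) := rfl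
  rw [e, HasRingHomProperty.Spec_iff (P := @LocallyOfFinitePresentation)]
  have : Algebra.FinitePresentation k L :=
    (Algebra.FinitePresentation.of_finiteType).mp inferInstance
  exact RingHom.finitePresentation_algebraMap.mpr this

theorem exists_pt_eq (L : Type u) [Field L] [Algebra k L] (y : (T0 k).left) :
    y ∈ Set.range (pL k L).left := by
  refine ⟨IsLocalRing.closedPoint L, ?_⟩
  have : Subsingleton (T0 k).left := inferInstanceAs (Subsingleton (PrimeSpectrum k))
  exact Subsingleton.elim _ _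

/-- `Spec L ⟶ Spec k` is a covering. -/
theorem generate_mem (L : Type u) [Field L] [Algebra k L] [FiniteDimensional k L] :
    Sieve.generate (Presieve.singleton (pL k L)) ∈
      QuotSh.J Scheme.fppfPrecoverage (Spec (CommRingCat.of k)) (T0 k) := by
  have h1 : Flat (pL k L).left := flat_pL L
  have h2 : LocallyOfFinitePresentation (pL k L).left := lfp_pL L
  have h3 := K778.DisjSh.mem_J (Y := T0 k) (fun _ : PUnit.{1} => TL k L) (fun _ => pL k L) (fun y =>
    ⟨PUnit.unit, exists_pt_eq L y⟩)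
  rwa [Presieve.ofArrows_pUnit] at h3

section cyc

variable {L : Type u} [Field L] [Algebra k L]
variable {F : BigSite.Ab Scheme.fppfPrecoverage (Spec (CommRingCat.of k))} {c : Pr F (TL k L)}

/-- The values of the cocycle. -/
noncomputable def val (c : Pr F (TL k L)) (σ : Gal(L/k)) : F.obj.obj (op (TL k L)) := c _ (𝟙 _) (sg (σ : L →ₐ[k] L))

theorem val_mul (hc : IsCoc (pL k L) c) (σ τ : Gal(L/k)) :
    val c (σ * τ) = val c σ + rs F (sg (σ : L →ₐ[k] L)) (val c τ) := by
  have h1 := hc.add (𝟙 _) (sg (σ : L →ₐ[k] L)) (sg ((σ * τ : Gal(L/k)) : L →ₐ[k] L)) (to_T0_ext _ _) (to_T0_ext _ _)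
  have h2 := hc.nat (sg (σ : L →ₐ[k] L)) (𝟙 _) (sg (τ : L →ₐ[k] L)) (to_T0_ext _ _)
  have h3 : sg (σ : L →ₐ[k] L) ≫ sg (τ : L →ₐ[k] L) = sg ((σ * τ : Gal(L/k)) : L →ₐ[k] L) := sg_comp _ _
  rw [Category.comp_id, h3] at h2
  rw [h2] at h1
  exact h1.symm

theorem val_one (hc : IsCoc (pL k L) c) : val c 1 = 0 := by
  have h1 := hc.add (𝟙 (TL k L)) (𝟙 _) (𝟙 _) (to_T0_ext _ _) (to_T0_ext _ _)
  have h2 : sg ((1 : Gal(L/k)) : L →ₐ[k] L) = 𝟙 _ := sg_one
  rw [val, h2]
  exact add_eq_left.mp h1

/-- The action of an automorphism on `F(L)`. -/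
noncomputable def act (F : BigSite.Ab Scheme.fppfPrecoverage (Spec (CommRingCat.of k))) (σ : Gal(L/k)) :
    F.obj.obj (op (TL k L)) →+ F.obj.obj (op (TL k L)) := (F.obj.map (sg (σ : L →ₐ[k] L)).op).hom

theorem act_mul (σ τ : Gal(L/k)) (x : F.obj.obj (op (TL k L))) : act F (σ * τ) x = act F σ (act F τ x) := by
  change rs F (sg ((σ * τ : Gal(L/k)) : L →ₐ[k] L)) x = rs F (sg (σ : L →ₐ[k] L)) (rs F (sg (τ : L →ₐ[k] L)) x)
  rw [rs_comp, sg_comp]
  rfl

theorem act_one (x : F.obj.obj (op (TL k L))) : act F (1 : Gal(L/k)) x = x := by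
  have h2 : sg ((1 : Gal(L/k)) : L →ₐ[k] L) = 𝟙 _ := sg_one
  change rs F (sg ((1 : Gal(L/k)) : L →ₐ[k] L)) x = x
  rw [h2, rs_id]

theorem val_pow (hc : IsCoc (pL k L) c) (σ : Gal(L/k)) (i : ℕ) :
    val c (σ ^ i) = ∑ j ∈ Finset.range i, act F (σ ^ j) (val c σ) := by
  induction i with
  | zero => rw [pow_zero, val_one hc, Finset.sum_range_zero]
  | succ i ih =>
    rw [pow_succ', val_mul hc, ih, Finset.sum_range_succ', pow_zero, act_one, add_comm]
    congr 1
    refine (map_sum (act F σ) _ _).trans ?_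
    refine Finset.sum_congr rfl fun j _ => ?_
    rw [pow_succ', act_mul]

/-- Sections over `L` fixed by the Galois group descend. -/
theorem exists_desc [FiniteDimensional k L] [IsGalois k L] (g : F.obj.obj (op (TL k L)))
    (hg : ∀ σ : Gal(L/k), act F σ g = g) : ∃ t : F.obj.obj (op (T0 k)), rs F (pL k L) t = g := by
  have h1 : Flat (pL k L).left := flat_pL L
  have h2 : LocallyOfFinitePresentation (pL k L).left := lfp_pL L
  obtain ⟨t, ht, -⟩ := K778.DisjSh.isSheafFor_arrows F (Y := T0 k) (fun _ : PUnit.{1} => TL k L) (fun _ => pL k L)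
    (fun y => ⟨PUnit.unit, exists_pt_eq L y⟩) (fun _ => g) (fun _ _ W a b _ => by
      obtain ⟨O, hO, hOσ⟩ := exists_opens a b
      have hfl : ∀ σ : Gal(L/k), Flat (Over.homMk (O σ).ι : Over.mk ((O σ).ι ≫ W.hom) ⟶ W).left :=
        fun σ => inferInstanceAs (Flat (O σ).ι)
      have hfp : ∀ σ : Gal(L/k), LocallyOfFinitePresentation
          (Over.homMk (O σ).ι : Over.mk ((O σ).ι ≫ W.hom) ⟶ W).left :=
        fun σ => inferInstanceAs (LocallyOfFinitePresentation (O σ).ι)
      refine K778.DisjSh.ext_of_cover F (fun σ => Over.mk ((O σ).ι ≫ W.hom)) (fun σ => Over.homMk (O σ).ι)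
        (fun y => ?_) _ _ fun σ => ?_
      · obtain ⟨σ, hσ⟩ := hO y
        exact ⟨σ, by
          change y ∈ Set.range (O σ).ι
          rw [Scheme.Opens.range_ι]; exact hσ⟩
      · let i : Over.mk ((O σ).ι ≫ W.hom) ⟶ W := Over.homMk (O σ).ι
        have e1 : i ≫ b = (i ≫ a) ≫ sg (σ : L →ₐ[k] L) := by
          apply Over.OverMorphism.ext
          exact hOσ σ
        change rs F i (rs F a g) = rs F i (rs F b g)
        rw [rs_comp, rs_comp, e1, ← rs_comp F (i ≫ a)]
        exact congrArg (rs F (i ≫ a)) (hg σ).symm)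
  exact ⟨t, ht PUnit.unit⟩

/-- Classes dying on a cyclic extension `L` with `F(L)` finite: at most `#F(k)` many. -/
theorem card_kernel_le [FiniteDimensional k L] [IsGalois k L] (φ : Gal(L/k)) (hφ : ∀ σ : Gal(L/k), ∃ i : ℕ, σ = φ ^ i)
    (𝓗 : CohT Scheme.fppfPrecoverage (Spec (CommRingCat.of k)))
    (F : BigSite.Ab Scheme.fppfPrecoverage (Spec (CommRingCat.of k))) [Finite (F.obj.obj (op (TL k L)))]
    [Finite (F.obj.obj (op (T0 k)))] {ι : Type v} [Finite ι] (x : ι → 𝓗.H F 1 (T0 k)) (hx : Function.Injective x)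
    (h0 : ∀ i, 𝓗.res (pL k L) (x i) = 0) : Nat.card ι ≤ Nat.card (F.obj.obj (op (T0 k))) := by
  have hc : ∀ i, ∃ c : Pr F (TL k L), IsCls 𝓗 (pL k L) c (x i) := fun i => exists_coc (pL k L) (x i) (h0 i)
  choose c hc using hc
  let D : F.obj.obj (op (TL k L)) →+ F.obj.obj (op (TL k L)) := act F φ - AddMonoidHom.id _
  let n := orderOf φ
  let N : F.obj.obj (op (TL k L)) →+ F.obj.obj (op (TL k L)) := ∑ j ∈ Finset.range n, act F (φ ^ j)
  have hD : ∀ m, D m = act F φ m - m := fun m => rfl
  have hNs : ∀ m, N m = ∑ j ∈ Finset.range n, act F (φ ^ j) m := fun m => by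
    simp only [N, AddMonoidHom.finsetSum_apply]
  have hcard := card_le D N (fun m => by
    rw [hNs, hD]
    simp only [map_sub]
    rw [Finset.sum_sub_distrib]
    have e1 : ∑ j ∈ Finset.range n, act F (φ ^ j) (act F φ m) = ∑ j ∈ Finset.range n, act F (φ ^ (j + 1)) m :=
      Finset.sum_congr rfl fun j _ => by rw [pow_succ, act_mul]
    rw [e1, ← Finset.sum_sub_distrib, Finset.sum_range_sub (fun j => act F (φ ^ j) m), pow_orderOf_eq_one,
      pow_zero, sub_self]) (fun i => val (c i) φ) (fun i => by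
    rw [hNs, ← val_pow (hc i).isCoc, pow_orderOf_eq_one, val_one (hc i).isCoc]) (fun i j hij => by
    apply hx
    obtain ⟨h, hh⟩ := hij
    rw [← sub_eq_zero]
    refine eq_zero_of_gal (generate_mem L) ((hc i).sub (hc j)) h fun σ => ?_
    obtain ⟨m, rfl⟩ := hφ σ
    change val (c i) (φ ^ m) - val (c j) (φ ^ m) = act F (φ ^ m) h - h
    rw [val_pow (hc i).isCoc, val_pow (hc j).isCoc, ← Finset.sum_sub_distrib]
    have e2 : ∀ l, act F (φ ^ l) (val (c i) φ) - act F (φ ^ l) (val (c j) φ) =
        act F (φ ^ (l + 1)) h - act F (φ ^ l) h := by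
      intro l
      rw [← map_sub, ← hh, hD, map_sub, ← act_mul, ← pow_succ]
    simp only [e2]
    rw [Finset.sum_range_sub (fun l => act F (φ ^ l) h), pow_zero, act_one])
  refine hcard.trans ?_
  have hdesc : ∀ g : D.ker, ∃ t : F.obj.obj (op (T0 k)), rs F (pL k L) t = g.1 := by
    intro g
    have hg : act F φ g.1 = g.1 := sub_eq_zero.mp g.2
    apply exists_desc
    intro σ
    obtain ⟨m, rfl⟩ := hφ σ
    induction m with
    | zero => rw [pow_zero, act_one]
    | succ m ih => rw [pow_succ', act_mul, ih, hg]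
  choose t ht using hdesc
  exact Nat.card_le_card_of_injective t fun g g' hgg => Subtype.ext (by rw [← ht g, ← ht g', hgg])

end cyc

/-- A finite family of classes dies on one covering sieve. -/
theorem exists_common_cover (𝓗 : CohT Scheme.fppfPrecoverage (Spec (CommRingCat.of k)))
    (F : BigSite.Ab Scheme.fppfPrecoverage (Spec (CommRingCat.of k))) {ι : Type v} (x : ι → 𝓗.H F 1 (T0 k))
    (s : Finset ι) : ∃ R ∈ QuotSh.J Scheme.fppfPrecoverage (Spec (CommRingCat.of k)) (T0 k),
      ∀ ⦃Y : Over (Spec (CommRingCat.of k))⦄ (f : Y ⟶ T0 k), R f → ∀ i ∈ s, 𝓗.res f (x i) = 0 := by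
  classical
  induction s using Finset.induction_on with
  | empty => exact ⟨⊤, (QuotSh.J _ _).top_mem _, fun Y f _ i hi => absurd hi (Finset.notMem_empty i)⟩
  | insert a s ha ih =>
    obtain ⟨R, hR, h⟩ := ih
    obtain ⟨R', hR', h'⟩ := 𝓗.exists_cover_res_eq_zero 0 F (x a)
    refine ⟨R ⊓ R', (QuotSh.J _ _).intersection_covering hR hR', fun Y f hf i hi => ?_⟩
    rcases Finset.mem_insert.mp hi with rfl | hi
    · exact h' f hf.2
    · exact h f hf.1 i hi

/-- `H¹_fppf(κ, F)` is finite, of order at most `#F(κ)`, for a finite field `κ` if `F(L)` is finite for all finite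
extensions `L` of `κ`. -/
theorem finite_H_one [Finite k] (F : BigSite.Ab Scheme.fppfPrecoverage (Spec (CommRingCat.of k)))
    (hF : ∀ (L : Type u) [Field L] [Algebra k L] [FiniteDimensional k L], Finite (F.obj.obj (op (TL k L))))
    (h0 : Finite (F.obj.obj (op (T0 k)))) :
    Finite (BigSite.H Scheme.fppfPrecoverage (Spec (CommRingCat.of k)) F 1) := by
  by_contra hinf
  rw [not_finite_iff_infinite] at hinf
  let B := Nat.card (F.obj.obj (op (T0 k)))
  let 𝓗 : CohT Scheme.fppfPrecoverage (Spec (CommRingCat.of k)) := K828.BigCoh.bigCoh _ _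
  let e : Fin (B + 1) ↪ BigSite.H Scheme.fppfPrecoverage (Spec (CommRingCat.of k)) F 1 :=
    Fin.valEmbedding.trans (Infinite.natEmbedding _)
  let x : Fin (B + 1) → 𝓗.H F 1 (T0 k) := fun i => (hEquiv F 1).symm (e i)
  have hx : Function.Injective x := (hEquiv F 1).symm.injective.comp e.injective
  obtain ⟨R, hR, h⟩ := exists_common_cover 𝓗 F x Finset.univ
  obtain ⟨L, _, _, _, hL⟩ := exists_ext hR
  have hfin : Finite L := Module.finite_of_finite k
  have := hF L
  have := Fintype.ofFinite k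
  have hgal : IsGalois k L := inferInstance
  have hcard := card_kernel_le (FiniteField.frobeniusAlgEquivOfAlgebraic k L) (fun σ => by
    obtain ⟨i, hi⟩ := (FiniteField.bijective_frobeniusAlgEquivOfAlgebraic_pow k L).2 σ
    exact ⟨i.1, hi.symm⟩) 𝓗 F x hx (fun i => h _ hL i (Finset.mem_univ i))
  rw [Nat.card_eq_fintype_card, Fintype.card_fin] at hcard
  exact absurd hcard (by simp [B])

/-- Points of an affine scheme of finite type with values in a finite ring are finite in number. -/
theorem finite_hom {S T : Scheme.{u}} [IsAffine S] [IsAffine T] (t : T ⟶ S) [Finite Γ(T, ⊤)]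
    (G : Over S) [IsAffine G.left] [LocallyOfFiniteType G.hom] : Finite (Over.mk t ⟶ G) := by
  have h1 : G.hom.appTop.hom.FiniteType :=
    (HasRingHomProperty.iff_of_isAffine (P := @LocallyOfFiniteType)).mp inferInstance
  algebraize [G.hom.appTop.hom]
  have h2 : Algebra.FiniteType Γ(S, ⊤) Γ(G.left, ⊤) := h1
  obtain ⟨s, hs⟩ := h2.out
  refine Finite.of_injective (β := s → Γ(T, ⊤)) (fun f x => f.left.appTop.hom x.1) fun f g hfg => ?_
  apply Over.OverMorphism.ext
  apply ext_of_isAffine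
  ext x
  have hx : x ∈ Algebra.adjoin Γ(S, ⊤) (s : Set Γ(G.left, ⊤)) := by rw [hs]; trivial
  induction hx using Algebra.adjoin_induction with
  | mem x hx => exact congrFun hfg ⟨x, hx⟩
  | algebraMap r =>
    change (G.hom.appTop ≫ f.left.appTop).hom r = (G.hom.appTop ≫ g.left.appTop).hom r
    rw [← Scheme.Hom.comp_appTop, ← Scheme.Hom.comp_appTop, Over.w f, Over.w g]
  | add x y _ _ hx hy => rw [map_add, map_add, hx, hy]
  | mul x y _ _ hx hy => rw [map_mul, map_mul, hx, hy]

end K447.FinField
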