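import Groth.Agent.TateGlob.K827.H1
import Groth.Agent.TateGlob.K828.BigCoh
import Groth.Agent.GmDual.K778.DisjSh
import Groth.Agent.CGrpSh.K731.Basic
import Mathlib.FieldTheory.Galois.Basic
import Mathlib.RingTheory.Invariant.Basic
import Mathlib.FieldTheory.Galois.Profinite

/-!
# Classes of degree one on the big fppf site dying on a finite Galois extension

For a finite Galois extension `L/k`, a class `x` of `H¹_fppf(Spec k, F)` with Čech cocycle `c` for
`Spec L ⟶ Spec k` is zero as soon as the cocycle `σ ↦ c(1, Spec σ) ∈ F(L)` is a coboundary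
(`eq_zero_of_gal`).
-/

set_option autoImplicit false

universe u

open CategoryTheory CategoryTheory.Limits AlgebraicGeometry Opposite
open Groth.Agent.Etrest.FppfCoch K828 K828.Cech K828.Cartan K827.H1

namespace K447.GalCls

variable (k L : Type u) [Field k] [Field L] [Algebra k L]

/-- `Spec k` as an object over itself. -/
noncomputable abbrev T0 : Over (Spec (CommRingCat.of k)) := Over.mk (𝟙 _)

/-- `Spec L` over `Spec k`. -/
noncomputable abbrev TL : Over (Spec (CommRingCat.of k)) := Over.mk (Spec.map (CommRingCat.ofHom (algebraMap k L)))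

/-- The structure map. -/
noncomputable abbrev pL : TL k L ⟶ T0 k := Over.homMk (Spec.map (CommRingCat.ofHom (algebraMap k L)))

variable {k L}

/-- `Spec` of an automorphism. -/
noncomputable def sg (σ : L →ₐ[k] L) : TL k L ⟶ TL k L :=
  Over.homMk (Spec.map (CommRingCat.ofHom σ.toRingHom)) (by
    change Spec.map _ ≫ Spec.map _ = Spec.map _
    rw [← Spec.map_comp, ← CommRingCat.ofHom_comp]
    congr 2
    ext x
    exact σ.commutes x)

theorem sg_one : sg (AlgHom.id k L) = 𝟙 _ := by
  apply Over.OverMorphism.ext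
  change Spec.map (CommRingCat.ofHom (RingHom.id L)) = 𝟙 _
  rw [CommRingCat.ofHom_id, Spec.map_id]

theorem sg_comp (σ τ : L →ₐ[k] L) : sg σ ≫ sg τ = sg (σ.comp τ) := by
  apply Over.OverMorphism.ext
  change Spec.map _ ≫ Spec.map _ = Spec.map _
  rw [← Spec.map_comp, ← CommRingCat.ofHom_comp]
  rfl

theorem to_T0_ext {W : Over (Spec (CommRingCat.of k))} (f g : W ⟶ T0 k) : f = g :=
  Over.OverMorphism.ext (((Category.comp_id _).symm.trans (Over.w f)).trans
    (((Category.comp_id _).symm.trans (Over.w g)).symm))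

/-- The key: two `k`-homomorphisms from a finite Galois extension to a ring agree up to Galois, locally. -/
theorem exists_cover [FiniteDimensional k L] [IsGalois k L] {B : Type u} [CommRing B] (α β : L →+* B)
    (h : α.comp (algebraMap k L) = β.comp (algebraMap k L)) :
    ∃ u : Gal(L/k) → B, (∀ p : Ideal B, p.IsPrime → ∃ σ, u σ ∉ p) ∧
      ∀ σ x, u σ * (β x - α (σ x)) = 0 := by
  classical
  obtain ⟨θ, hθ⟩ := Field.exists_primitive_element k L
  let y : B := β θ
  let ys : Gal(L/k) → B := fun σ => α (σ θ)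
  have hinj : ∀ σ τ : Gal(L/k), σ θ = τ θ → σ = τ := by
    intro σ τ e
    have : (σ : L →ₐ[k] L) = (τ : L →ₐ[k] L) := by
      apply AlgHom.ext_of_adjoin_eq_top (s := {θ})
      · rw [← IntermediateField.top_toSubalgebra, ← hθ, IntermediateField.adjoin_simple_toSubalgebra_of_isAlgebraic
          (Algebra.IsAlgebraic.isAlgebraic θ)]
      · intro x hx
        rw [Set.mem_singleton_iff] at hx
        subst hx
        exact e
    exact AlgEquiv.ext fun x => congrArg (fun f : L →ₐ[k] L => f x) this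
  have hunit : ∀ σ τ : Gal(L/k), σ ≠ τ → IsUnit (ys σ - ys τ) := by
    intro σ τ hne
    have : σ θ - τ θ ≠ 0 := fun e => hne (hinj σ τ (sub_eq_zero.mp e))
    have h2 := (IsUnit.mk0 _ this).map α
    rwa [map_sub] at h2
  -- the product vanishes
  have hprod : ∏ σ : Gal(L/k), (y - ys σ) = 0 := by
    have hinv : Algebra.IsInvariant k L Gal(L/k) :=
      ⟨fun b hb => (IsGalois.mem_range_algebraMap_iff_fixed b).mpr fun σ => hb σ⟩
    have hl : MulSemiringAction.charpoly Gal(L/k) θ ∈ Polynomial.lifts (algebraMap k L) :=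
      Algebra.IsInvariant.charpoly_mem_lifts k L Gal(L/k) θ
    obtain ⟨P, hP⟩ := (Polynomial.mem_lifts _).mp hl
    have e1 : P.eval₂ (algebraMap k L) θ = 0 := by
      rw [← Polynomial.eval_map, hP, MulSemiringAction.eval_charpoly]
    have e2 : P.eval₂ (β.comp (algebraMap k L)) y = 0 := by
      have := congrArg β e1
      rwa [Polynomial.hom_eval₂, map_zero] at this
    rw [← h, ← Polynomial.eval₂_map, hP, MulSemiringAction.charpoly_eq, Polynomial.eval₂_finsetProd] at e2
    rw [← e2]
    refine Finset.prod_congr rfl fun σ _ => ?_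
    simp [ys]
  refine ⟨fun σ => ∏ τ ∈ Finset.univ.erase σ, (y - ys τ), ?_, ?_⟩
  · intro p hp
    have h0 : ∏ σ : Gal(L/k), (y - ys σ) ∈ p := hprod ▸ p.zero_mem
    obtain ⟨σ, -, hσ⟩ := (hp.prod_mem_iff).mp h0
    refine ⟨σ, fun hu => ?_⟩
    obtain ⟨τ, hτ, hτp⟩ := (hp.prod_mem_iff).mp hu
    have hne : σ ≠ τ := (Finset.ne_of_mem_erase hτ).symm
    have h3 : ys τ - ys σ ∈ p := by
      have := p.sub_mem hσ hτp
      have e : y - ys σ - (y - ys τ) = ys τ - ys σ := by ring
      rwa [e] at this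
    exact hp.ne_top (Ideal.eq_top_of_isUnit_mem p h3 (hunit τ σ hne.symm))
  · intro σ x
    have hz : (∏ τ ∈ Finset.univ.erase σ, (y - ys τ)) * (y - ys σ) = 0 := by
      rw [Finset.prod_erase_mul _ _ (Finset.mem_univ σ)]; exact hprod
    -- the two maps to the localization agree
    set v := ∏ τ ∈ Finset.univ.erase σ, (y - ys τ) with hv
    have hx : x ∈ Algebra.adjoin k ({θ} : Set L) := by
      have : Algebra.adjoin k ({θ} : Set L) = ⊤ := by
        rw [← IntermediateField.adjoin_simple_toSubalgebra_of_isAlgebraic (Algebra.IsAlgebraic.isAlgebraic θ), hθ,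
          IntermediateField.top_toSubalgebra]
      rw [this]; trivial
    induction hx using Algebra.adjoin_induction with
    | mem x hx =>
      rw [Set.mem_singleton_iff] at hx
      subst hx
      exact hz
    | algebraMap r =>
      have := congrArg (fun f : k →+* B => f r) h
      change α (algebraMap k L r) = β (algebraMap k L r) at this
      rw [σ.commutes, this, sub_self, mul_zero]
    | add x y _ _ hx hy =>
      rw [map_add, map_add, map_add, add_sub_add_comm, mul_add, hx, hy, add_zero]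
    | mul x y _ _ hx hy =>
      rw [map_mul, map_mul, map_mul]
      have e : v * (β x * β y - α (σ x) * α (σ y)) =
          v * (β x - α (σ x)) * β y + α (σ x) * (v * (β y - α (σ y))) := by ring
      rw [e, hx, hy, zero_mul, mul_zero, add_zero]

theorem isUnit_appTop_ι {X : Scheme.{u}} (f : Γ(X, ⊤)) : IsUnit ((X.basicOpen f).ι.appTop.hom f) := by
  have h1 : IsUnit (X.presheaf.map (homOfLE (X.basicOpen_le f)).op f) := RingedSpace.isUnit_res_basicOpen _ f
  have h2 : (X.basicOpen f).ι ''ᵁ ⊤ ≤ X.basicOpen f := by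
    rw [Scheme.Opens.ι_image_top]
  have h3 := h1.map (X.presheaf.map (homOfLE h2).op).hom
  have e : (X.basicOpen f).ι.appTop = X.presheaf.map (homOfLE (X.basicOpen_le f)).op ≫
      X.presheaf.map (homOfLE h2).op := by
    rw [← X.presheaf.map_comp]
    rfl
  rw [e]
  exact h3

/-- The open where `b` and `a ≫ σ` agree. -/
theorem exists_opens [FiniteDimensional k L] [IsGalois k L] {W : Over (Spec (CommRingCat.of k))}
    (a b : W ⟶ TL k L) :
    ∃ O : Gal(L/k) → W.left.Opens, (∀ y, ∃ σ, y ∈ O σ) ∧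
      ∀ σ, (O σ).ι ≫ b.left = (O σ).ι ≫ (a ≫ sg (σ : L →ₐ[k] L)).left := by
  let α : L →+* Γ(W.left, ⊤) := a.left.appTop.hom.comp (Scheme.ΓSpecIso (CommRingCat.of L)).inv.hom
  let β : L →+* Γ(W.left, ⊤) := b.left.appTop.hom.comp (Scheme.ΓSpecIso (CommRingCat.of L)).inv.hom
  have key : ∀ (c : W ⟶ TL k L), (Scheme.ΓSpecIso (CommRingCat.of k)).inv ≫ W.hom.appTop =
      CommRingCat.ofHom (algebraMap k L) ≫ (Scheme.ΓSpecIso (CommRingCat.of L)).inv ≫ c.left.appTop := by
    intro c
    rw [← Over.w c, Scheme.Hom.comp_appTop, ← Category.assoc, ← Category.assoc]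
    congr 1
    exact (Scheme.ΓSpecIso_inv_naturality (CommRingCat.ofHom (algebraMap k L))).symm
  have h : α.comp (algebraMap k L) = β.comp (algebraMap k L) := by
    have := (key a).symm.trans (key b)
    exact congrArg CommRingCat.Hom.hom this
  obtain ⟨u, hu, hu'⟩ := exists_cover α β h
  refine ⟨fun σ => W.left.basicOpen (u σ), fun y => ?_, fun σ => ?_⟩
  · obtain ⟨σ, hσ⟩ := hu ((IsLocalRing.maximalIdeal (W.left.presheaf.stalk y)).comap
      (W.left.presheaf.germ ⊤ y trivial).hom) inferInstance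
    refine ⟨σ, ?_⟩
    rw [Scheme.mem_basicOpen_top]
    by_contra hne
    exact hσ ((IsLocalRing.mem_maximalIdeal _).mpr hne)
  · have : IsAffine (TL k L).left := inferInstanceAs (IsAffine (Spec (CommRingCat.of L)))
    apply ext_of_isAffine
    rw [← cancel_epi (Scheme.ΓSpecIso (CommRingCat.of L)).inv]
    ext x
    have hx := congrArg ((W.left.basicOpen (u σ)).ι.appTop.hom) (hu' σ x)
    rw [map_mul, map_zero, (isUnit_appTop_ι (u σ)).mul_right_eq_zero, map_sub, sub_eq_zero] at hx
    have e2 : (Spec.map (CommRingCat.ofHom (σ : L →ₐ[k] L).toRingHom)).appTop.hom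
        ((Scheme.ΓSpecIso (CommRingCat.of L)).inv.hom x) = (Scheme.ΓSpecIso (CommRingCat.of L)).inv.hom (σ x) :=
      (congrArg (fun t => t.hom x)
        (Scheme.ΓSpecIso_inv_naturality (CommRingCat.ofHom (σ : L →ₐ[k] L).toRingHom))).symm
    change (W.left.basicOpen (u σ)).ι.appTop.hom (b.left.appTop.hom _) =
      (W.left.basicOpen (u σ)).ι.appTop.hom (a.left.appTop.hom _)
    refine hx.trans ?_
    exact (congrArg (fun t => (W.left.basicOpen (u σ)).ι.appTop.hom (a.left.appTop.hom t)) e2).symm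

/-- A class with cocycle `c` for `Spec L ⟶ Spec k` is zero if `σ ↦ c(1, σ)` is a coboundary. -/
theorem eq_zero_of_gal [FiniteDimensional k L] [IsGalois k L]
    {𝓗 : CohT Scheme.fppfPrecoverage (Spec (CommRingCat.of k))}
    {F : BigSite.Ab Scheme.fppfPrecoverage (Spec (CommRingCat.of k))}
    (hp : Sieve.generate (Presieve.singleton (pL k L)) ∈ QuotSh.J Scheme.fppfPrecoverage (Spec (CommRingCat.of k)) (T0 k))
    {c : Pr F (TL k L)} {x : 𝓗.H F 1 (T0 k)} (h : IsCls 𝓗 (pL k L) c x) (g : F.obj.obj (op (TL k L)))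
    (hg : ∀ σ : Gal(L/k), c _ (𝟙 _) (sg (σ : L →ₐ[k] L)) = rs F (sg (σ : L →ₐ[k] L)) g - g) : x = 0 := by
  have hc := h.isCoc
  refine h.eq_zero hp g fun {W} a b _ => ?_
  obtain ⟨O, hO, hOσ⟩ := exists_opens a b
  have hfl : ∀ σ : Gal(L/k), Flat (Over.homMk (O σ).ι : Over.mk ((O σ).ι ≫ W.hom) ⟶ W).left :=
    fun σ => inferInstanceAs (Flat (O σ).ι)
  have hfp : ∀ σ : Gal(L/k), LocallyOfFinitePresentation (Over.homMk (O σ).ι : Over.mk ((O σ).ι ≫ W.hom) ⟶ W).left :=
    fun σ => inferInstanceAs (LocallyOfFinitePresentation (O σ).ι)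
  refine K778.DisjSh.ext_of_cover F (fun σ => Over.mk ((O σ).ι ≫ W.hom)) (fun σ => Over.homMk (O σ).ι)
    (fun y => ?_) _ _ fun σ => ?_
  · obtain ⟨σ, hσ⟩ := hO y
    exact ⟨σ, by
      change y ∈ Set.range (O σ).ι
      rw [Scheme.Opens.range_ι]; exact hσ⟩
  · let i : Over.mk ((O σ).ι ≫ W.hom) ⟶ W := Over.homMk (O σ).ι
    have e1 : i ≫ b = (i ≫ a) ≫ sg (σ : L →ₐ[k] L) := by
      apply Over.OverMorphism.ext
      exact hOσ σ
    change F.obj.map i.op (c W a b) = rs F i (rs F b g - rs F a g)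
    rw [← hc.nat i a b (to_T0_ext _ _), e1, rs_sub, rs_comp, rs_comp, e1]
    have h2 := hc.nat (i ≫ a) (𝟙 _) (sg (σ : L →ₐ[k] L)) (to_T0_ext _ _)
    rw [Category.comp_id] at h2
    rw [h2, hg σ, ← rs_comp]
    exact rs_sub F _ _ _

end K447.GalCls
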